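import Groth.Agent.H4LC.LC
import Groth.Agent.H4LC.Torsion
import Groth.Agent.H4Depth.DepthHom
import Mathlib.RingTheory.Regular.LinearMap
import Mathlib.Algebra.Category.ModuleCat.Ext.Basic

/-!
# Vanishing of local cohomology and of `Ext` for arbitrary modules
-/

set_option autoImplicit false
set_option linter.style.haveILetI false

universe u

open CategoryTheory CategoryTheory.Abelian

namespace Groth.Agent.H4Supp

variable {A : Type u} [CommRing A] [IsNoetherianRing A] (J : Ideal A)

omit [IsNoetherianRing A] in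
theorem torsionSub_eq_bot {G : Type u} [AddCommGroup G] [Module A G] (h : Subsingleton (LocCoh.H J 0 G)) :
    DRing.torsionSub J G = ⊥ := by
  rw [Submodule.eq_bot_iff]
  intro x hx
  haveI := h
  have h1 : (⟨x, hx⟩ : DRing.torsionSub J G) = 0 := by
    rw [← (H4LC.zeroEquiv J G).apply_symm_apply ⟨x, hx⟩,
      Subsingleton.elim ((H4LC.zeroEquiv J G).symm ⟨x, hx⟩) 0, map_zero]
  exact congrArg Subtype.val h1

omit [IsNoetherianRing A] in
theorem subsingleton_H_zero {G : Type u} [AddCommGroup G] [Module A G] (h : DRing.torsionSub J G = ⊥) :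
    Subsingleton (LocCoh.H J 0 G) := by
  haveI : Subsingleton (DRing.torsionSub J G) := by rw [h]; infer_instance
  exact (H4LC.zeroEquiv J G).injective.subsingleton

theorem exists_mem_radical {F : Type u} [AddCommGroup F] [Module A F] [Module.Finite A F]
    (hF : Module.support A F ⊆ PrimeSpectrum.zeroLocus (J : Set A)) : J ≤ (Module.annihilator A F).radical := by
  rw [Module.support_eq_zeroLocus, PrimeSpectrum.zeroLocus_subset_zeroLocus_iff] at hF
  exact hF

theorem exists_pow_le_annihilator {F : Type u} [AddCommGroup F] [Module A F] [Module.Finite A F]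
    (hF : Module.support A F ⊆ PrimeSpectrum.zeroLocus (J : Set A)) : ∃ m, J ^ m ≤ Module.annihilator A F :=
  Ideal.exists_pow_le_of_le_radical_of_fg (exists_mem_radical J hF) (IsNoetherian.noetherian J)

theorem subsingleton_hom {G : Type u} [AddCommGroup G] [Module A G] (h : DRing.torsionSub J G = ⊥)
    (F : Type u) [AddCommGroup F] [Module A F] [Module.Finite A F]
    (hF : Module.support A F ⊆ PrimeSpectrum.zeroLocus (J : Set A)) : Subsingleton (F →ₗ[A] G) := by
  obtain ⟨m, hm⟩ := exists_pow_le_annihilator J hF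
  refine subsingleton_of_forall_eq 0 fun f => LinearMap.ext fun x => ?_
  refine (Submodule.eq_bot_iff _).1 h (f x) ⟨m, fun a ha => ?_⟩
  rw [← map_smul, Module.mem_annihilator.1 (hm ha) x, map_zero]

theorem torsionSub_eq_bot_of_hom {G : Type u} [AddCommGroup G] [Module A G]
    (F : Type u) [AddCommGroup F] [Module A F] [Module.Finite A F]
    (hF : Module.support A F = PrimeSpectrum.zeroLocus (J : Set A)) (h : Subsingleton (F →ₗ[A] G)) :
    DRing.torsionSub J G = ⊥ := by
  rw [Submodule.eq_bot_iff]
  rintro x ⟨m, hm⟩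
  haveI : Subsingleton (F →ₗ[A] Submodule.span A {x}) := by
    refine subsingleton_of_forall_eq 0 fun f => LinearMap.ext fun y => Subtype.ext ?_
    exact LinearMap.congr_fun (Subsingleton.elim ((Submodule.span A {x}).subtype ∘ₗ f) 0) y
  obtain ⟨r, hr, hreg⟩ := IsSMulRegular.subsingleton_linearMap_iff.1 this
  have hrad : r ∈ J.radical := by
    have h1 : PrimeSpectrum.zeroLocus (J : Set A) ⊆ PrimeSpectrum.zeroLocus ((Module.annihilator A F : Ideal A) : Set A) := by
      rw [← hF, Module.support_eq_zeroLocus]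
    exact (PrimeSpectrum.zeroLocus_subset_zeroLocus_iff _ _).1 h1 hr
  obtain ⟨e, he⟩ := hrad
  have h2 : (r ^ e) ^ m • (⟨x, Submodule.mem_span_singleton_self x⟩ : Submodule.span A {x}) = 0 :=
    Subtype.ext (hm _ (Ideal.pow_mem_pow he m))
  exact congrArg Subtype.val (((hreg.pow e).pow m).right_eq_zero_of_smul h2)

theorem ext_zero_iff {F G : Type u} [AddCommGroup F] [Module A F] [AddCommGroup G] [Module A G] :
    Subsingleton (Ext (ModuleCat.of A F) (ModuleCat.of A G) 0) ↔ Subsingleton (F →ₗ[A] G) := by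
  constructor
  · intro h
    refine subsingleton_of_forall_eq 0 fun f => ?_
    have h1 := (Ext.mk₀_bijective (ModuleCat.of A F) (ModuleCat.of A G)).1
      (Subsingleton.elim (Ext.mk₀ (ModuleCat.ofHom f)) (Ext.mk₀ (ModuleCat.ofHom 0)))
    exact congrArg ModuleCat.Hom.hom h1
  · intro h
    refine subsingleton_of_forall_eq 0 fun z => ?_
    obtain ⟨f, rfl⟩ := (Ext.mk₀_bijective (ModuleCat.of A F) (ModuleCat.of A G)).2 z
    rw [show f = 0 from ModuleCat.hom_ext (Subsingleton.elim _ _), Ext.mk₀_zero]

/-- A torsion free module embeds into a torsion free injective. -/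
theorem exists_embedding {G : Type u} [AddCommGroup G] [Module A G] (hG : DRing.torsionSub J G = ⊥) :
    ∃ (E : Type u) (_ : AddCommGroup E) (_ : Module A E) (f : G →ₗ[A] E),
      Function.Injective f ∧ Module.Injective A E ∧ DRing.torsionSub J E = ⊥ := by
  obtain ⟨E, _, _, f, hf, hE⟩ := H4Inj.exists_injective_embedding (R := A) G
  set Γ := DRing.torsionSub J E
  haveI hΓ : Module.Injective A Γ := H4LC.injective_torsionSub J E hE
  obtain ⟨p, hp⟩ := hΓ.out Γ.subtype Γ.subtype_injective LinearMap.id
  let s : (E ⧸ Γ) →ₗ[A] E := Γ.liftQ (LinearMap.id - Γ.subtype ∘ₗ p) fun x hx => by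
    rw [LinearMap.mem_ker, LinearMap.sub_apply, LinearMap.id_apply, LinearMap.comp_apply,
      show p x = ⟨x, hx⟩ from hp ⟨x, hx⟩, Submodule.subtype_apply, sub_self]
  have hs : ∀ y, Γ.mkQ (s y) = y := fun y => by
    obtain ⟨x, rfl⟩ := Γ.mkQ_surjective y
    simp [s, Submodule.mkQ_apply, Submodule.Quotient.mk_sub, (Submodule.Quotient.mk_eq_zero Γ).2 (p x).2]
  refine ⟨E ⧸ Γ, inferInstance, inferInstance, Γ.mkQ ∘ₗ f, ?_, ⟨fun X Y _ _ _ _ i hi g => ?_⟩, ?_⟩
  · rw [injective_iff_map_eq_zero]
    intro x hx
    obtain ⟨m, hm⟩ := (Submodule.Quotient.mk_eq_zero Γ).1 hx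
    exact (Submodule.eq_bot_iff _).1 hG x ⟨m, fun a ha => hf (by rw [map_smul, map_zero]; exact hm a ha)⟩
  · obtain ⟨h, hh⟩ := hE.out i hi (s ∘ₗ g)
    exact ⟨Γ.mkQ ∘ₗ h, fun x => by rw [LinearMap.comp_apply, hh x]; exact hs _⟩
  · rw [Submodule.eq_bot_iff]
    rintro y ⟨m, hm⟩
    rw [← hs y]
    refine (Submodule.Quotient.mk_eq_zero Γ).2 ⟨m, fun a ha => ?_⟩
    rw [← map_smul, hm a ha, map_zero]

theorem ext_of_H : ∀ (n : ℕ) (G : Type u) [AddCommGroup G] [Module A G],
    (∀ i, i < n → Subsingleton (LocCoh.H J i G)) →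
    ∀ (F : Type u) [AddCommGroup F] [Module A F], Module.Finite A F →
      Module.support A F ⊆ PrimeSpectrum.zeroLocus (J : Set A) →
      ∀ i, i < n → Subsingleton (Ext (ModuleCat.of A F) (ModuleCat.of A G) i) := by
  intro n
  induction n with
  | zero => intro G _ _ _ F _ _ _ _ i hi; exact absurd hi (Nat.not_lt_zero i)
  | succ n ih =>
    intro G _ _ hG F _ _ hFf hF i hi
    haveI := hFf
    have hT := torsionSub_eq_bot J (hG 0 (Nat.succ_pos n))
    rcases i with _ | i
    · exact ext_zero_iff.2 (subsingleton_hom J hT F hF)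
    obtain ⟨E, _, _, f, hf, hE, hET⟩ := exists_embedding J hT
    have hg := (LinearMap.range f).mkQ_surjective
    have hfg := LinearMap.exact_map_mkQ_range f
    have hHE : ∀ j, Subsingleton (LocCoh.H J j E) := fun j => by
      rcases Nat.eq_zero_or_pos j with rfl | hj
      · exact subsingleton_H_zero J hET
      · exact H4LC.subsingleton_H_of_injective J E hj
    have hQ := ih (E ⧸ LinearMap.range f) (fun j hj => H4LC.subsingleton_H_right J hf hg hfg j (hHE j) (hG (j + 1) (by omega)))
      F hFf hF i (by omega)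
    haveI : CategoryTheory.Injective (ModuleCat.of A E) :=
      (Module.injective_iff_injective_object A E).1 hE
    haveI : CategoryTheory.Injective (H4Depth.shortComplexOf f (LinearMap.range f).mkQ hfg).X₂ :=
      ‹CategoryTheory.Injective (ModuleCat.of A E)›
    refine subsingleton_of_forall_eq 0 fun z => ?_
    obtain ⟨w, rfl⟩ := Ext.covariant_sequence_exact₁ (ModuleCat.of A F)
      (H4Depth.shortComplexOf_shortExact f (LinearMap.range f).mkQ hf hg hfg) z (n₁ := i + 1)
      (Ext.eq_zero_of_injective _) (n₀ := i) rfl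
    have hw : w = 0 := @Subsingleton.elim _ hQ w 0
    subst hw
    exact Ext.zero_comp ..

theorem H_of_ext : ∀ (n : ℕ) (G : Type u) [AddCommGroup G] [Module A G],
    ∀ (F : Type u) [AddCommGroup F] [Module A F], Module.Finite A F →
      Module.support A F = PrimeSpectrum.zeroLocus (J : Set A) →
      (∀ i, i < n → Subsingleton (Ext (ModuleCat.of A F) (ModuleCat.of A G) i)) →
      ∀ i, i < n → Subsingleton (LocCoh.H J i G) := by
  intro n
  induction n with
  | zero => intro G _ _ F _ _ _ _ _ i hi; exact absurd hi (Nat.not_lt_zero i)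
  | succ n ih =>
    intro G _ _ F _ _ hFf hF hG i hi
    haveI := hFf
    have hT := torsionSub_eq_bot_of_hom J F hF (ext_zero_iff.1 (hG 0 (Nat.succ_pos n)))
    rcases i with _ | i
    · exact subsingleton_H_zero J hT
    obtain ⟨E, _, _, f, hf, hE, hET⟩ := exists_embedding J hT
    have hg := (LinearMap.range f).mkQ_surjective
    have hfg := LinearMap.exact_map_mkQ_range f
    have hS := H4Depth.shortComplexOf_shortExact f (LinearMap.range f).mkQ hf hg hfg
    haveI : CategoryTheory.Injective (ModuleCat.of A E) :=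
      (Module.injective_iff_injective_object A E).1 hE
    haveI : CategoryTheory.Injective (H4Depth.shortComplexOf f (LinearMap.range f).mkQ hfg).X₂ :=
      ‹CategoryTheory.Injective (ModuleCat.of A E)›
    have hQE : ∀ j, j < n → Subsingleton (Ext (ModuleCat.of A F) (ModuleCat.of A (E ⧸ LinearMap.range f)) j) := fun j hj => by
      refine subsingleton_of_forall_eq 0 fun z => ?_
      obtain ⟨w, rfl⟩ := Ext.covariant_sequence_exact₃ (ModuleCat.of A F) hS z (n₁ := j + 1) rfl
        (@Subsingleton.elim _ (hG (j + 1) (by omega)) _ _)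
      rcases j with _ | j
      · haveI := ext_zero_iff.2 (subsingleton_hom J hET F hF.le)
        have hw : w = 0 := Subsingleton.elim (α := Ext (ModuleCat.of A F) (ModuleCat.of A E) 0) w 0
        subst hw
        exact Ext.zero_comp ..
      · have hw : w = 0 := Ext.eq_zero_of_injective w
        subst hw
        exact Ext.zero_comp ..
    exact H4LC.subsingleton_H_left J hf hg hfg i (ih (E ⧸ LinearMap.range f) F hFf hF hQE i (by omega))
      (H4LC.subsingleton_H_of_injective J E (Nat.succ_pos i))

end Groth.Agent.H4Supp
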